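import Cfsg.Agent.Lib.SNineThree.Classify.Data

/-!
The finite checks for the classification of three by three matrices over three elements.
Vectors are numbers below 27, matrices triples of columns.
-/

set_option autoImplicit false
set_option maxRecDepth 100000

namespace CfsgLib.SNineThree.Cls

/-- matrices -/
abbrev MC := ℕ × ℕ × ℕ

/-- sum of vectors -/
def add (a b : ℕ) : ℕ := Nat.land (Nat.shiftRight addTab (5 * (27 * a + b))) 31

/-- multiple of a vector -/
def sm (k a : ℕ) : ℕ := Nat.land (Nat.shiftRight smTab (5 * (27 * k + a))) 31

/-- matrix times vector -/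
def ap (g : MC) (v : ℕ) : ℕ :=
  add (add (sm (v % 3) g.1) (sm (v / 3 % 3) g.2.1)) (sm (v / 9) g.2.2)

/-- product -/
def mul (g h : MC) : MC := (ap g h.1, ap g h.2.1, ap g h.2.2)

/-- equality of matrices -/
def beq (g h : MC) : Bool := Nat.beq g.1 h.1 && (Nat.beq g.2.1 h.2.1 && Nat.beq g.2.2 h.2.2)

/-- membership -/
def inList (g : MC) (l : List MC) : Bool := l.any fun h => beq g h

/-- a permutation matrix -/
def perm (i : ℕ) : MC := perms.getD i (0, 0, 0)

/-- the monomial matrices in the frame -/
def monos (a : ℕ) : List MC :=
  if Nat.beq a 0 then monos0 else if Nat.beq a 1 then monos1 else monos2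

/-- the frame vectors -/
def fr (a : ℕ) : List ℕ :=
  if Nat.beq a 0 then [1, 3, 9] else if Nat.beq a 1 then [14, 16, 22] else [24, 20, 8]

/-- the image is a multiple of a frame vector -/
def onAxis (a v : ℕ) : Bool := (fr a).any fun f => Nat.beq v f || Nat.beq v (sm 2 f)

/-- monomial in the frame -/
def isMono (a : ℕ) (g : MC) : Bool := (fr a).all fun f => onAxis a (ap g f)

/-- fixes the all-one vector without being a permutation matrix -/
def bad (g : MC) : Bool := Nat.beq (ap g 13) 13 && !inList g perms

/-- the check of a witness -/
def wit (g : MC) (k v : ℕ) : Bool :=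
  if Nat.beq k 0 then Nat.blt 0 v && Nat.blt v 27 && Nat.beq (ap g v) 0
  else if Nat.beq k 1 then Nat.blt v 3 && isMono v g
  else if Nat.beq k 2 then
    Nat.blt v 6 && Nat.beq (ap (perm v) (ap g 13)) (ap g 13) &&
      perms.all fun t => !beq (mul (perm v) g) (mul g t)
  else if Nat.beq k 3 then bad g
  else if Nat.beq k 4 then Nat.blt v 6 && bad (mul (mul g (perm v)) g)
  else if Nat.beq k 5 then
    Nat.blt (v % 8) 6 && Nat.blt (v / 8) 6 &&
      bad (mul (mul (mul (mul g (perm (v % 8))) g) (perm (v / 8))) g)
  else
    Nat.blt (v % 8) 6 && Nat.blt (v / 8 % 8) 6 && Nat.blt (v / 64) 6 &&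
      bad (mul (mul (mul (mul (mul (mul g (perm (v % 8))) g) (perm (v / 8 % 8))) g)
        (perm (v / 64))) g)

/-- the checks for the matrices with given first column -/
def rowOK (c0 : ℕ) : Bool :=
  (List.range 27).all fun c1 => (List.range 27).all fun c2 =>
    let e := Nat.land (Nat.shiftRight (wits.getD c0 0) (12 * (27 * c1 + c2))) 4095
    wit (c0, c1, c2) (e % 8) (e / 8)

/-- monomial matrices are listed -/
def listedOK (c0 : ℕ) : Bool :=
  (List.range 27).all fun c1 => (List.range 27).all fun c2 =>
    (List.range 3).all fun a => !isMono a (c0, c1, c2) ||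
      (inList (c0, c1, c2) (monos a) || (List.range 27).any fun v =>
        Nat.blt 0 v && Nat.beq (ap (c0, c1, c2) v) 0)

theorem rows_a : (List.range 9).all rowOK = true := by decide +kernel
theorem rows_b : (List.range 9).all (fun c => rowOK (c + 9)) = true := by decide +kernel
theorem rows_c : (List.range 9).all (fun c => rowOK (c + 18)) = true := by decide +kernel

theorem rows {c : ℕ} (h : c < 27) : rowOK c = true := by
  by_cases h1 : c < 9
  · exact (List.all_eq_true.1 rows_a) c (List.mem_range.2 h1)
  by_cases h2 : c < 18
  · have := (List.all_eq_true.1 rows_b) (c - 9) (List.mem_range.2 (by omega))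
    rwa [Nat.sub_add_cancel (by omega)] at this
  · have := (List.all_eq_true.1 rows_c) (c - 18) (List.mem_range.2 (by omega))
    rwa [Nat.sub_add_cancel (by omega)] at this

theorem listed : (List.range 27).all listedOK = true := by decide +kernel

/-- two of the three monomial groups meet in the common part, and products of proper elements of
two of them lie in none -/
def pairsOK : Bool :=
  (List.range 3).all fun a => (List.range 3).all fun b =>
    Nat.beq a b || ((monos a).all fun g => (!isMono b g || (List.range 3).all fun c => isMono c g) &&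
      (isMono b g || (monos b).all fun h => isMono a h ||
        (List.range 3).all fun c => !isMono c (mul g h)))

theorem pairs : pairsOK = true := by decide +kernel

end CfsgLib.SNineThree.Cls
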